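import Mathlib
import Cfsg.Prelude.Def_Local
import Cfsg.Agent.Lib.FStar.Constrained
import Cfsg.Agent.Lib.FStar.Local
import Cfsg.Agent.Lib.FStar.Layer
import Cfsg.Agent.Lib.FStar.Signalizer
import Cfsg.Agent.Lib.FStar.Factorize

/-!
# The Thompson--Wielandt theorem: relative cores and the two basic lemmas
-/

set_option autoImplicit false

open Subgroup Cfsg Cfsg.Agent.Lib.Core Cfsg.Agent.Lib.FStar

namespace Cfsg.Agent.Lib.TW

variable {G : Type*} [Group G] [Finite G]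

/-- `U` is a normal subgroup of `M`, both subgroups of the ambient group. -/
def NI (U M : Subgroup G) : Prop := U ≤ M ∧ ∀ m ∈ M, ∀ u ∈ U, m * u * m⁻¹ ∈ U

/-- `O_p(H)` as a subgroup of the ambient group. -/
def PC (p : ℕ) (H : Subgroup G) : Subgroup G := (pCore p H).map H.subtype

/-- The layer of `H` as a subgroup of the ambient group. -/
def LY (H : Subgroup G) : Subgroup G := (layer H).map H.subtype

/-- The subgroup of `H` generated by its `p'`-elements. -/
def Rs (p : ℕ) (H : Subgroup G) : Subgroup G := closure {x | x ∈ H ∧ (orderOf x).Coprime p}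

/-- The core of `X` in `M`. -/
def rc (M X : Subgroup G) : Subgroup G := (X.subgroupOf M).normalCore.map M.subtype

theorem nz {g : G} {U : Subgroup G} (h : ∀ u ∈ U, g * u * g⁻¹ ∈ U) : g ∈ normalizer (U : Set G) := by
  have h1 : (zpowers g) ≤ normalizer (U : Set G) := by
    apply normalizer_of_invariant
    intro a ha x hx
    obtain ⟨n, rfl⟩ := ha
    have hpos : ∀ k : ℕ, ∀ y ∈ U, g ^ k * y * (g ^ k)⁻¹ ∈ U := by
      intro k
      induction k with
      | zero => simp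
      | succ k ih =>
        intro y hy
        have := ih _ (h y hy)
        rw [pow_succ]
        simpa [mul_assoc] using this
    have hfin : IsOfFinOrder g := isOfFinOrder_of_finite g
    obtain ⟨m, hm⟩ : ∃ m : ℕ, g ^ n = g ^ m := by
      have : g ^ n ∈ Submonoid.powers g := by
        rw [mem_powers_iff_mem_zpowers]
        exact ⟨n, rfl⟩
      obtain ⟨m, hm⟩ := this
      exact ⟨m, hm.symm⟩
    show (fun k : ℤ => g ^ k) n * x * ((fun k : ℤ => g ^ k) n)⁻¹ ∈ U
    simp only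
    rw [hm]
    exact hpos m x hx
  exact h1 (mem_zpowers g)

theorem inv_norm {g : G} {U : Subgroup G} (h : ∀ u ∈ U, g * u * g⁻¹ ∈ U) : ∀ u ∈ U, g⁻¹ * u * g ∈ U := by
  have h1 : g⁻¹ ∈ normalizer (U : Set G) := inv_mem (nz h)
  intro u hu
  have h2 := (mem_normalizer_iff.mp h1 u).mp hu
  simpa using h2

theorem PC_le (p : ℕ) (H : Subgroup G) : PC p H ≤ H := map_subtype_le _

theorem PC_isP (p : ℕ) [Fact p.Prime] (H : Subgroup G) : IsPGroup p (PC p H) :=
  (pCore_isPGroup p H).map _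

theorem PC_NI (p : ℕ) (H : Subgroup G) : NI (PC p H) H := by
  refine ⟨PC_le p H, ?_⟩
  intro m hm u hu
  obtain ⟨y, hy, rfl⟩ := hu
  exact ⟨⟨m, hm⟩ * y * (⟨m, hm⟩ : H)⁻¹, (pCore_normal p H).conj_mem y hy ⟨m, hm⟩, by simp⟩

theorem le_PC (p : ℕ) [Fact p.Prime] {U H : Subgroup G} (h : NI U H) (hp : IsPGroup p U) : U ≤ PC p H := by
  have hn : (U.subgroupOf H).Normal := by
    constructor
    intro n hn g
    rw [mem_subgroupOf] at hn ⊢
    exact h.2 g g.2 n hn
  have h1 := le_pCore hn (hp.of_equiv (subgroupOfEquivOfLe h.1).symm)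
  intro x hx
  exact ⟨⟨x, h.1 hx⟩, h1 (by rw [mem_subgroupOf]; exact hx), rfl⟩

theorem PC_conj (p : ℕ) [Fact p.Prime] {A : Subgroup G} {g : G} (h : ∀ a ∈ A, g * a * g⁻¹ ∈ A) :
    ∀ u ∈ PC p A, g * u * g⁻¹ ∈ PC p A := by
  have hinv := inv_norm h
  have h1 : NI ((PC p A).map (MulAut.conj g).toMonoidHom) A := by
    constructor
    · rintro _ ⟨u, hu, rfl⟩
      exact h u (PC_le p A hu)
    · rintro m hm _ ⟨u, hu, rfl⟩
      refine ⟨(g⁻¹ * m * g) * u * (g⁻¹ * m * g)⁻¹, (PC_NI p A).2 _ (hinv m hm) u hu, ?_⟩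
      simp [mul_assoc]
  have h2 : IsPGroup p ((PC p A).map (MulAut.conj g).toMonoidHom) := (PC_isP p A).map _
  intro u hu
  exact le_PC p h1 h2 ⟨u, hu, rfl⟩

theorem PC_NI_of {A M : Subgroup G} (p : ℕ) [Fact p.Prime] (h : NI A M) : NI (PC p A) M :=
  ⟨(PC_le p A).trans h.1, fun m hm => PC_conj p (h.2 m hm)⟩

theorem PC_subn (p : ℕ) [Fact p.Prime] {U A M : Subgroup G} (hUA : NI U A) (hAM : NI A M)
    (hp : IsPGroup p U) : U ≤ PC p M :=
  (le_PC p hUA hp).trans (le_PC p (PC_NI_of p hAM) (PC_isP p A))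

theorem Rs_le (p : ℕ) (H : Subgroup G) : Rs p H ≤ H := by
  rw [Rs, closure_le]
  exact fun x hx => hx.1

theorem Rs_conj (p : ℕ) {H : Subgroup G} {g : G} (h : ∀ a ∈ H, g * a * g⁻¹ ∈ H) :
    ∀ u ∈ Rs p H, g * u * g⁻¹ ∈ Rs p H := by
  intro u hu
  induction hu using closure_induction with
  | mem x hx =>
    apply Subgroup.subset_closure
    refine ⟨h x hx.1, ?_⟩
    have : orderOf (g * x * g⁻¹) = orderOf x := by
      have := orderOf_injective (MulAut.conj g).toMonoidHom (MulAut.conj g).injective x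
      simpa using this
    rw [this]
    exact hx.2
  | one => simp [one_mem]
  | mul a b _ _ ha hb =>
    have : g * (a * b) * g⁻¹ = (g * a * g⁻¹) * (g * b * g⁻¹) := by group
    rw [this]
    exact mul_mem ha hb
  | inv a _ ha =>
    have : g * a⁻¹ * g⁻¹ = (g * a * g⁻¹)⁻¹ := by group
    rw [this]
    exact inv_mem ha

theorem Rs_NI (p : ℕ) {H M : Subgroup G} (h : NI H M) : NI (Rs p H) M :=
  ⟨(Rs_le p H).trans h.1, fun m hm => Rs_conj p (h.2 m hm)⟩

theorem Rs_bot {p : ℕ} [hp : Fact p.Prime] {H : Subgroup G} (h : Rs p H = ⊥) : IsPGroup p H := by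
  intro x
  obtain ⟨k, hk⟩ := exists_pow_orderOf_coprime (p := p) (x : G)
  refine ⟨k, ?_⟩
  have h1 : (x : G) ^ p ^ k ∈ Rs p H := Subgroup.subset_closure ⟨pow_mem x.2 _, hk⟩
  rw [h, mem_bot] at h1
  exact Subtype.ext h1

theorem mem_rc {M X : Subgroup G} {x : G} : x ∈ rc M X ↔ x ∈ M ∧ ∀ m ∈ M, m * x * m⁻¹ ∈ X := by
  constructor
  · rintro ⟨y, hy, rfl⟩
    refine ⟨y.2, fun m hm => ?_⟩
    have h1 := hy ⟨m, hm⟩
    rw [mem_subgroupOf] at h1
    simpa using h1
  · rintro ⟨hx, h⟩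
    refine ⟨⟨x, hx⟩, ?_, rfl⟩
    intro m
    rw [mem_subgroupOf]
    simpa using h m m.2

theorem rc_NI (M X : Subgroup G) : NI (rc M X) M := by
  refine ⟨map_subtype_le _, ?_⟩
  intro m hm u hu
  rw [mem_rc] at hu ⊢
  refine ⟨mul_mem (mul_mem hm hu.1) (inv_mem hm), fun k hk => ?_⟩
  have := hu.2 (k * m) (mul_mem hk hm)
  simpa [mul_assoc] using this

theorem rc_le (M X : Subgroup G) : rc M X ≤ X := by
  intro x hx
  have := (mem_rc.mp hx).2 1 (one_mem _)
  simpa using this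

theorem le_rc {U M X : Subgroup G} (h : NI U M) (hX : U ≤ X) : U ≤ rc M X := by
  intro u hu
  rw [mem_rc]
  exact ⟨h.1 hu, fun m hm => hX (h.2 m hm u hu)⟩

/-- An element normalizing a `q`-group whose commutators commute with the `q'`-element centralizes. -/
theorem comm_of_comm_comm {q : ℕ} [Fact q.Prime] {x y : G}
    (hc : x * (x * y * x⁻¹ * y⁻¹) = (x * y * x⁻¹ * y⁻¹) * x) (hq : (orderOf x).Coprime q)
    {k : ℕ} (hk : (x * y * x⁻¹ * y⁻¹) ^ q ^ k = 1) : x * y = y * x := by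
  set c := x * y * x⁻¹ * y⁻¹ with hcdef
  have hCom : Commute x c := hc
  have h1 : ∀ n : ℕ, x ^ n * y * (x ^ n)⁻¹ = c ^ n * y := by
    intro n
    induction n with
    | zero => simp
    | succ n ih =>
      have h2 : x ^ (n + 1) * y * (x ^ (n + 1))⁻¹ = x * (x ^ n * y * (x ^ n)⁻¹) * x⁻¹ := by
        rw [pow_succ']
        group
      rw [h2, ih]
      have h3 : x * (c ^ n * y) * x⁻¹ = (x * c ^ n * x⁻¹) * (x * y * x⁻¹) := by group
      have h5 : x * c ^ n * x⁻¹ = c ^ n := by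
        rw [(hCom.pow_right n).eq]
        group
      have h4 : x * y * x⁻¹ = c * y := by
        rw [hcdef]
        group
      rw [h3, h5, h4, pow_succ]
      exact (mul_assoc _ _ _).symm
  have h2 := h1 (orderOf x)
  rw [pow_orderOf_eq_one] at h2
  simp only [one_mul, inv_one, mul_one] at h2
  have h3 : c ^ orderOf x = 1 := by
    have : y = c ^ orderOf x * y := h2
    exact (mul_eq_right.mp this.symm)
  have h4 : c = 1 := by
    have h5 : orderOf c ∣ Nat.gcd (q ^ k) (orderOf x) :=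
      Nat.dvd_gcd (orderOf_dvd_of_pow_eq_one hk) (orderOf_dvd_of_pow_eq_one h3)
    have h6 : Nat.gcd (q ^ k) (orderOf x) = 1 := Nat.Coprime.pow_left k hq.symm
    rw [h6, Nat.dvd_one, orderOf_eq_one_iff] at h5
    exact h5
  have h5 : x * y * x⁻¹ * y⁻¹ = 1 := h4
  have h6 : x * y * x⁻¹ = y := mul_inv_eq_one.mp h5
  calc x * y = x * y * x⁻¹ * x := by group
    _ = y * x := by rw [h6]

/-- A `p'`-element of the form `w x` with `w` in a `p`-group normalizing `K` and `x ∈ K` lies in `K`. -/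
theorem mem_of_pprime {p : ℕ} [hp : Fact p.Prime] {K W : Subgroup G} (hW : IsPGroup p W)
    (hn : ∀ w ∈ W, ∀ k ∈ K, w * k * w⁻¹ ∈ K) {w x : G} (hw : w ∈ W) (hx : x ∈ K)
    (hz : (orderOf (w * x)).Coprime p) : w * x ∈ K := by
  set z := w * x with hzdef
  have h1 : ∀ n : ℕ, ∃ k ∈ K, z ^ n = k * w ^ n := by
    intro n
    induction n with
    | zero => exact ⟨1, one_mem _, by simp⟩
    | succ n ih =>
      obtain ⟨k, hk, he⟩ := ih
      refine ⟨k * (w ^ (n + 1) * x * (w ^ (n + 1))⁻¹), mul_mem hk (hn _ (pow_mem hw _) x hx), ?_⟩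
      rw [pow_succ, he, hzdef]
      group
  obtain ⟨m, hm⟩ := hW ⟨w, hw⟩
  have hm' : w ^ p ^ m = 1 := by simpa using congrArg Subtype.val hm
  obtain ⟨k, hk, he⟩ := h1 (p ^ m)
  rw [hm', mul_one] at he
  have hc : (p ^ m).Coprime (orderOf z) := Nat.Coprime.pow_left m hz.symm
  obtain ⟨t, ht⟩ := exists_pow_eq_self_of_coprime hc
  rw [← ht, he]
  exact pow_mem hk t

/-- The normalizer growth in a product of two `q`-groups. -/
theorem grow {q : ℕ} [Fact q.Prime] {P Y : Subgroup G} (hP : IsPGroup q P) (hY : IsPGroup q Y)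
    (hn : ∀ y ∈ Y, ∀ x ∈ P, y * x * y⁻¹ ∈ P) (hne : ¬ P ≤ Y) :
    ∃ y' ∈ P, y' ∉ Y ∧ ∀ v ∈ Y, y' * v * y'⁻¹ ∈ Y := by
  set X : Subgroup G := P ⊔ Y with hX
  have hXp : IsPGroup q X := by
    have h1 : Y ≤ normalizer (P : Set G) := normalizer_of_invariant hn
    exact hP.to_sup_of_normal_left' hY h1
  set Y' : Subgroup X := Y.subgroupOf X with hY'
  have hlt : Y' < ⊤ := by
    rw [lt_top_iff_ne_top]
    intro h
    rw [hY', subgroupOf_eq_top] at h
    exact hne (le_sup_left.trans h)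
  haveI : Group.IsNilpotent X := hXp.isNilpotent
  have h1 := normalizerCondition_of_isNilpotent Y' hlt
  obtain ⟨z, hz1, hz2⟩ := SetLike.exists_of_lt h1
  have hzY : ∀ v ∈ Y, (z : G) * v * (z : G)⁻¹ ∈ Y := by
    intro v hv
    have hv' : (⟨v, (le_sup_right : Y ≤ X) hv⟩ : X) ∈ Y' := by
      rw [hY', mem_subgroupOf]
      exact hv
    have h2 := (mem_normalizer_iff.mp hz1 _).mp hv'
    rw [hY', mem_subgroupOf] at h2
    simpa using h2
  obtain ⟨y, hy, x, hx, hu⟩ := mem_sup_of_normalized hn (show (z : G) ∈ P ⊔ Y from z.2)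
  have hz3 : (z : G) ∉ Y := by
    intro h
    apply hz2
    rw [hY', mem_subgroupOf]
    exact h
  -- `z = y * x`, `y ∈ Y`, `x ∈ P`
  have hxe : x = y⁻¹ * z := by rw [hu]; group
  refine ⟨x, hx, ?_, ?_⟩
  · intro h
    apply hz3
    rw [hu]
    exact mul_mem hy h
  · intro v hv
    rw [hxe]
    have h2 := hzY v hv
    have h3 := inv_norm (fun u hu => mul_mem (mul_mem hy hu) (inv_mem hy)) _ (show (z : G) * v * (z : G)⁻¹ ∈ Y from h2)
    simpa [mul_assoc] using h3

end Cfsg.Agent.Lib.TW
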