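import Mathlib
import Cfsg.Agent.Lib.TW.Basic

/-!
# The Thompson--Wielandt theorem: the coprime and `p`-local steps
-/

set_option autoImplicit false

open Subgroup Cfsg Cfsg.Agent.Lib.Core Cfsg.Agent.Lib.FStar

namespace Cfsg.Agent.Lib.TW

variable {G : Type*} [Group G] [Finite G]

/-- The standing hypotheses on a pair of subgroups. -/
structure TWS (M₁ M₂ : Subgroup G) : Prop where
  ne1 : ¬ M₁ ≤ M₂
  ne2 : ¬ M₂ ≤ M₁
  h1 : ∀ U : Subgroup G, U ≠ ⊥ → NI U M₁ → normalizer (U : Set G) ≤ M₁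
  h2 : ∀ U : Subgroup G, U ≠ ⊥ → NI U M₂ → normalizer (U : Set G) ≤ M₂
  cardP : ∀ p : ℕ, Nat.card (PC p M₁) = Nat.card (PC p M₂)
  cardL : Nat.card (LY M₁) = Nat.card (LY M₂)

variable {M₁ M₂ : Subgroup G}

theorem TWS.swap (S : TWS M₁ M₂) : TWS M₂ M₁ :=
  ⟨S.ne2, S.ne1, S.h2, S.h1, fun p => (S.cardP p).symm, S.cardL.symm⟩

theorem NI.mem_norm {U M : Subgroup G} (h : NI U M) : M ≤ normalizer (U : Set G) :=
  fun _ hm => nz (h.2 _ hm)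

theorem cent_norm {g : G} {U : Subgroup G} (h : ∀ u ∈ U, g * u = u * g) :
    g ∈ normalizer (U : Set G) :=
  nz fun u hu => by rw [h u hu]; simpa using hu

theorem comm_closure {g : G} {s : Set G} (h : ∀ x ∈ s, g * x = x * g) :
    ∀ v ∈ closure s, g * v = v * g := by
  intro v hv
  have h2 : Commute g v := by
    induction hv using closure_induction with
    | mem x hx => exact h x hx
    | one => exact Commute.one_right g
    | mul a b _ _ ha hb => exact ha.mul_right hb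
    | inv a _ ha => exact ha.inv_right
  exact h2

theorem conj_closure {g : G} {s : Set G} {U : Subgroup G} (h : ∀ x ∈ s, g * x * g⁻¹ ∈ U) :
    ∀ v ∈ closure s, g * v * g⁻¹ ∈ U := by
  intro v hv
  induction hv using closure_induction with
  | mem x hx => exact h x hx
  | one => simp [one_mem]
  | mul a b _ _ ha hb =>
    have : g * (a * b) * g⁻¹ = (g * a * g⁻¹) * (g * b * g⁻¹) := by group
    rw [this]
    exact mul_mem ha hb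
  | inv a _ ha =>
    have : g * a⁻¹ * g⁻¹ = (g * a * g⁻¹)⁻¹ := by group
    rw [this]
    exact inv_mem ha

theorem orderOf_conj' (g x : G) : orderOf (g * x * g⁻¹) = orderOf x := by
  have := orderOf_injective (MulAut.conj g).toMonoidHom (MulAut.conj g).injective x
  simpa using this

theorem NI.inf_left {U V M : Subgroup G} (hU : NI U M) (hV : NI V M) : NI (U ⊓ V) M :=
  ⟨inf_le_left.trans hU.1, fun m hm u hu => mem_inf.mpr ⟨hU.2 m hm u (mem_inf.mp hu).1, hV.2 m hm u (mem_inf.mp hu).2⟩⟩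

theorem NI.mono {U M N : Subgroup G} (hU : NI U M) (hle : U ≤ N) (hN : N ≤ M) : NI U N :=
  ⟨hle, fun m hm u hu => hU.2 m (hN hm) u hu⟩

theorem NI_self (M : Subgroup G) : NI M M :=
  ⟨le_rfl, fun _ hm _ hu => mul_mem (mul_mem hm hu) (inv_mem hm)⟩

theorem PC_inf_le (q : ℕ) [Fact q.Prime] (M₁ M₂ : Subgroup G) :
    PC q M₁ ⊓ M₂ ≤ PC q (M₁ ⊓ M₂) := by
  apply le_PC q
  · refine ⟨inf_le_inf_right _ (PC_le q M₁), ?_⟩
    intro m hm u hu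
    exact mem_inf.mpr ⟨(PC_NI q M₁).2 m (mem_inf.mp hm).1 u (mem_inf.mp hu).1,
      mul_mem (mul_mem (mem_inf.mp hm).2 (mem_inf.mp hu).2) (inv_mem (mem_inf.mp hm).2)⟩
  · exact (PC_isP q M₁).to_le inf_le_left

theorem PC_inf_le' (q : ℕ) [Fact q.Prime] (M₁ M₂ : Subgroup G) :
    PC q M₂ ⊓ M₁ ≤ PC q (M₁ ⊓ M₂) := by
  rw [inf_comm M₁ M₂]
  exact PC_inf_le q M₂ M₁

theorem pow_one_of_isP {q : ℕ} {Y : Subgroup G} (hY : IsPGroup q Y) {y : G} (hy : y ∈ Y) :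
    ∃ k : ℕ, y ^ q ^ k = 1 := by
  obtain ⟨k, hk⟩ := hY ⟨y, hy⟩
  exact ⟨k, by simpa using congrArg Subtype.val hk⟩

/-- The first basic lemma. -/
theorem lemA (S : TWS M₁ M₂) (q : ℕ) [Fact q.Prime] {R u : Subgroup G} {s : Set G}
    (hR : R ≠ ⊥) (hRN : NI R M₂) (hRP : R ≤ PC q M₁) (hu : u = closure s)
    (hs : ∀ x ∈ s, (orderOf x).Coprime q) (hune : u ≠ ⊥) (huN : NI u M₂) (huM : u ≤ M₁)
    (huc : ∀ x ∈ u, ∀ y ∈ PC q (M₁ ⊓ M₂), x * y = y * x) : PC q M₁ ≤ M₂ := by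
  have hYle : PC q (M₁ ⊓ M₂) ≤ M₁ ⊓ M₂ := PC_le _ _
  have hPD := PC_inf_le q M₁ M₂
  have hRY : R ≤ PC q (M₁ ⊓ M₂) := fun r hr => hPD (mem_inf.mpr ⟨hRP hr, hRN.1 hr⟩)
  by_contra hne
  have hnY : ¬ PC q M₁ ≤ PC q (M₁ ⊓ M₂) := fun h => hne (h.trans (hYle.trans inf_le_right))
  obtain ⟨y', hy'P, hy'Y, hy'n⟩ := grow (PC_isP q M₁) (PC_isP q (M₁ ⊓ M₂))
    (fun y hy x hx => (PC_NI q M₁).2 y (hYle hy).1 x hx) hnY
  have hy'M : y' ∈ M₁ := PC_le q M₁ hy'P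
  have hkey : ∀ x ∈ s, y' * x = x * y' := by
    intro x hx
    have hxu : x ∈ u := by rw [hu]; exact Subgroup.subset_closure hx
    set x' := y' * x * y'⁻¹ with hx'
    -- `x'` centralizes the `q`-core of the intersection
    have hc : ∀ v ∈ PC q (M₁ ⊓ M₂), x' * v = v * x' := by
      intro v hv
      have h1 := inv_norm hy'n v hv
      have h2 := huc x hxu _ h1
      have : x' * v = y' * (x * (y'⁻¹ * v * y')) * y'⁻¹ := by rw [hx']; group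
      rw [this, h2, hx']
      group
    have hx'1 : x' ∈ M₁ := mul_mem (mul_mem hy'M (huM hxu)) (inv_mem hy'M)
    have hx'2 : x' ∈ M₂ := by
      apply S.h2 R hR hRN
      apply cent_norm
      intro r hr
      exact hc r (hRY hr)
    set w := x⁻¹ * x' with hw
    have hw1 : w ∈ PC q M₁ := by
      have h1 := (PC_NI q M₁).2 x⁻¹ (inv_mem (huM hxu)) y' hy'P
      have : w = (x⁻¹ * y' * x⁻¹⁻¹) * y'⁻¹ := by rw [hw, hx']; group
      rw [this]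
      exact mul_mem h1 (inv_mem hy'P)
    have hw2 : w ∈ M₂ := mul_mem (inv_mem (huN.1 hxu)) hx'2
    have hw3 : w ∈ PC q (M₁ ⊓ M₂) := hPD (mem_inf.mpr ⟨hw1, hw2⟩)
    have hwc : Commute x w := huc x hxu w hw3
    have he : x' = x * w := by rw [hw]; group
    have hn : w ^ orderOf x = 1 := by
      have h1 : x' ^ orderOf x = 1 := by
        have h2 : orderOf x' = orderOf x := orderOf_conj' y' x
        rw [← h2]
        exact pow_orderOf_eq_one x'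
      rw [he, hwc.mul_pow, pow_orderOf_eq_one, one_mul] at h1
      exact h1
    obtain ⟨k, hk⟩ := pow_one_of_isP (PC_isP q (M₁ ⊓ M₂)) hw3
    have hw1' : w = 1 := by
      have h5 : orderOf w ∣ Nat.gcd (q ^ k) (orderOf x) :=
        Nat.dvd_gcd (orderOf_dvd_of_pow_eq_one hk) (orderOf_dvd_of_pow_eq_one hn)
      have h6 : Nat.gcd (q ^ k) (orderOf x) = 1 := Nat.Coprime.pow_left k (hs x hx).symm
      rw [h6, Nat.dvd_one, orderOf_eq_one_iff] at h5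
      exact h5
    have h7 : x' = x := by rw [he, hw1', mul_one]
    rw [hx'] at h7
    exact mul_inv_eq_iff_eq_mul.mp h7
  apply hy'Y
  apply hPD
  refine mem_inf.mpr ⟨hy'P, ?_⟩
  apply S.h2 u hune huN
  apply cent_norm
  rw [hu]
  exact comm_closure hkey

/-- The centralizer of `O_p(M)` in `M`. -/
def Kc (p : ℕ) (M : Subgroup G) : Subgroup G := centralizer (PC p M : Set G) ⊓ M

theorem mem_Kc {p : ℕ} {M : Subgroup G} {x : G} :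
    x ∈ Kc p M ↔ (∀ y ∈ PC p M, y * x = x * y) ∧ x ∈ M := by
  simp only [Kc, mem_inf, mem_centralizer_iff]
  rfl

theorem Kc_NI (p : ℕ) [Fact p.Prime] (M : Subgroup G) : NI (Kc p M) M := by
  refine ⟨inf_le_right, ?_⟩
  intro m hm u hu
  rw [mem_Kc] at hu ⊢
  refine ⟨?_, mul_mem (mul_mem hm hu.2) (inv_mem hm)⟩
  intro y hy
  have h1 := inv_norm ((PC_NI p M).2 m hm) y hy
  have h2 := hu.1 _ h1
  have h3 : y * (m * u * m⁻¹) = m * ((m⁻¹ * y * m) * u) * m⁻¹ := by group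
  rw [h3, h2]
  group

theorem comm_of_isP_Kc (p : ℕ) [Fact p.Prime] {x y : G} (hx : x ∈ Kc p M₂)
    (hx' : (orderOf x).Coprime p) (hK : Kc p M₂ ≤ M₁) (hy : y ∈ PC p (M₁ ⊓ M₂)) : x * y = y * x := by
  have hyD := mem_inf.mp (PC_le p (M₁ ⊓ M₂) hy)
  have hxD : x ∈ M₁ ⊓ M₂ := mem_inf.mpr ⟨hK hx, (Kc_NI p M₂).1 hx⟩
  set Y := PC p (M₁ ⊓ M₂) with hYdef
  have hc1 : x * y * x⁻¹ * y⁻¹ ∈ Y :=
    mul_mem ((PC_NI p (M₁ ⊓ M₂)).2 x hxD y hy) (inv_mem hy)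
  have hc2 : x * y * x⁻¹ * y⁻¹ ∈ Kc p M₂ := by
    have h1 := (Kc_NI p M₂).2 y hyD.2 x⁻¹ (inv_mem hx)
    have : x * y * x⁻¹ * y⁻¹ = x * (y * x⁻¹ * y⁻¹) := by group
    rw [this]
    exact mul_mem hx h1
  have hleK : Y ⊓ Kc p M₂ ≤ PC p M₂ := by
    apply PC_subn p (A := Kc p M₂)
    · refine ⟨inf_le_right, ?_⟩
      intro m hm u hu
      exact mem_inf.mpr ⟨(PC_NI p (M₁ ⊓ M₂)).2 m (mem_inf.mpr ⟨hK hm, (Kc_NI p M₂).1 hm⟩) u (mem_inf.mp hu).1,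
        mul_mem (mul_mem hm (mem_inf.mp hu).2) (inv_mem hm)⟩
    · exact Kc_NI p M₂
    · exact (PC_isP p _).to_le inf_le_left
  have hc3 := hleK (mem_inf.mpr ⟨hc1, hc2⟩)
  have hc4 := (mem_Kc.mp hx).1 _ hc3
  obtain ⟨k, hk⟩ := pow_one_of_isP (PC_isP p (M₁ ⊓ M₂)) hc1
  exact comm_of_comm_comm hc4.symm hx' hk

theorem core_step (S : TWS M₁ M₂) (p : ℕ) [Fact p.Prime] {T T₂ : Subgroup G}
    (hT : T ≠ ⊥) (hTN : NI T M₁) (hTP : T ≤ PC p M₂)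
    (hT₂ : T₂ ≠ ⊥) (hT₂N : NI T₂ M₂) (hT₂P : T₂ ≤ PC p M₁)
    (hu : Rs p (Kc p M₂) ≠ ⊥) : Rs p (Kc p M₂) ≤ Rs p (Kc p M₁) := by
  have hK : Kc p M₂ ≤ M₁ := by
    intro x hx
    apply S.h1 T hT hTN
    apply cent_norm
    intro u hu
    exact ((mem_Kc.mp hx).1 u (hTP hu)).symm
  have huc : ∀ x ∈ Rs p (Kc p M₂), ∀ y ∈ PC p (M₁ ⊓ M₂), x * y = y * x := by
    intro x hx y hy
    have : y * x = x * y := by
      refine comm_closure ?_ x hx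
      intro z hz
      exact (comm_of_isP_Kc p hz.1 hz.2 hK hy).symm
    exact this.symm
  have h1 : PC p M₁ ≤ M₂ := lemA S p hT₂ hT₂N hT₂P rfl (fun x hx => hx.2) hu
    (Rs_NI p (Kc_NI p M₂)) ((Rs_le p _).trans hK) huc
  have h2 : PC p M₁ ≤ PC p (M₁ ⊓ M₂) := fun x hx => PC_inf_le p M₁ M₂ (mem_inf.mpr ⟨hx, h1 hx⟩)
  apply (closure_le _).mpr
  intro x hx
  apply Subgroup.subset_closure
  refine ⟨?_, hx.2⟩
  rw [mem_Kc]
  exact ⟨fun y hy => (huc x (Subgroup.subset_closure hx) y (h2 hy)).symm, hK hx.1⟩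

theorem core_cent (S : TWS M₁ M₂) (p : ℕ) [Fact p.Prime] {T T₂ : Subgroup G}
    (hT : T ≠ ⊥) (hTN : NI T M₁) (hTP : T ≤ PC p M₂)
    (hT₂ : T₂ ≠ ⊥) (hT₂N : NI T₂ M₂) (hT₂P : T₂ ≤ PC p M₁) :
    Kc p M₂ ≤ PC p M₂ := by
  by_cases hu : Rs p (Kc p M₂) = ⊥
  · exact le_PC p (Kc_NI p M₂) (Rs_bot hu)
  · exfalso
    have h1 := core_step S p hT hTN hTP hT₂ hT₂N hT₂P hu
    have hu1 : Rs p (Kc p M₁) ≠ ⊥ := by
      intro h
      rw [h, le_bot_iff] at h1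
      exact hu h1
    have h2 := core_step S.swap p hT₂ hT₂N hT₂P hT hTN hTP hu1
    have h3 : Rs p (Kc p M₂) = Rs p (Kc p M₁) := le_antisymm h1 h2
    apply S.ne2
    have h4 := NI.mem_norm (Rs_NI p (Kc_NI p M₂))
    rw [h3] at h4
    exact h4.trans (S.h1 _ hu1 (Rs_NI p (Kc_NI p M₁)))

theorem isP_ne_coprime {p q : ℕ} [hp : Fact p.Prime] [hq : Fact q.Prime] (hpq : p ≠ q)
    {Y : Subgroup G} (hY : IsPGroup q Y) {y : G} (hy : y ∈ Y) : (orderOf y).Coprime p := by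
  obtain ⟨k, hk⟩ := pow_one_of_isP hY hy
  have h1 : orderOf y ∣ q ^ k := orderOf_dvd_of_pow_eq_one hk
  have h2 : (q ^ k).Coprime p :=
    (Nat.coprime_primes hq.out hp.out).mpr hpq.symm |>.pow_left k
  exact Nat.Coprime.coprime_dvd_left h1 h2

theorem eq_one_of_two {p q : ℕ} [hp : Fact p.Prime] [hq : Fact q.Prime] (hpq : p ≠ q)
    {X Y : Subgroup G} (hX : IsPGroup p X) (hY : IsPGroup q Y) {y : G} (hx : y ∈ X) (hy : y ∈ Y) :
    y = 1 := by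
  obtain ⟨k, hk⟩ := pow_one_of_isP hX hx
  have h1 := isP_ne_coprime hpq hY hy
  have h5 : orderOf y ∣ Nat.gcd (orderOf y) (p ^ k) :=
    Nat.dvd_gcd dvd_rfl (orderOf_dvd_of_pow_eq_one hk)
  rw [Nat.Coprime.pow_right k h1, Nat.dvd_one, orderOf_eq_one_iff] at h5
  exact h5

/-- The center of `O_q(M)`, as a subgroup of the ambient group. -/
def Zq (q : ℕ) (M : Subgroup G) : Subgroup G := PC q M ⊓ centralizer (PC q M : Set G)

theorem mem_Zq {q : ℕ} {M : Subgroup G} {x : G} :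
    x ∈ Zq q M ↔ x ∈ PC q M ∧ ∀ y ∈ PC q M, y * x = x * y := by
  simp only [Zq, mem_inf, mem_centralizer_iff]
  rfl

theorem Zq_NI (q : ℕ) [Fact q.Prime] (M : Subgroup G) : NI (Zq q M) M := by
  refine ⟨fun x hx => PC_le q M (mem_Zq.mp hx).1, ?_⟩
  intro m hm u hu
  rw [mem_Zq] at hu ⊢
  refine ⟨(PC_NI q M).2 m hm u hu.1, ?_⟩
  intro y hy
  have h1 := inv_norm ((PC_NI q M).2 m hm) y hy
  have h2 := hu.2 _ h1
  have h3 : y * (m * u * m⁻¹) = m * ((m⁻¹ * y * m) * u) * m⁻¹ := by group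
  rw [h3, h2]
  group

theorem Zq_ne_bot (q : ℕ) [Fact q.Prime] {M : Subgroup G} (h : PC q M ≠ ⊥) : Zq q M ≠ ⊥ := by
  haveI : Nontrivial (PC q M) := (nontrivial_iff_ne_bot _).mpr h
  haveI := (PC_isP q M).center_nontrivial
  obtain ⟨z, hz⟩ := exists_ne (1 : center (PC q M))
  intro hb
  have h1 : ((z : PC q M) : G) ∈ Zq q M := by
    rw [mem_Zq]
    refine ⟨(z : PC q M).2, fun y hy => ?_⟩
    have := (mem_center_iff.mp z.2) ⟨y, hy⟩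
    simpa using congrArg Subtype.val this
  rw [hb, mem_bot] at h1
  apply hz
  apply Subtype.ext
  apply Subtype.ext
  simpa using h1

theorem two_aux (S : TWS M₁ M₂) {p q : ℕ} [Fact p.Prime] [Fact q.Prime] (hpq : p ≠ q)
    {S₀ R : Subgroup G} (hS₀ : S₀ ≠ ⊥) (hS₀N : NI S₀ M₁) (hS₀P : S₀ ≤ PC p M₂)
    (hR : R ≠ ⊥) (hRN : NI R M₂) (hRP : R ≤ PC q M₁) : PC p M₂ ≤ M₁ := by
  have hQ : PC q M₁ ≠ ⊥ := by
    intro h
    rw [h, le_bot_iff] at hRP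
    exact hR hRP
  have hZle : Zq q M₁ ≤ PC q M₁ := inf_le_left
  have hZM : Zq q M₁ ≤ M₂ := by
    intro x hx
    apply S.h2 R hR hRN
    apply cent_norm
    intro u hu
    exact ((mem_Zq.mp hx).2 u (hRP hu)).symm
  refine lemA S.swap p hS₀ hS₀N hS₀P (u := Zq q M₁) (s := (Zq q M₁ : Set G)) (closure_eq _).symm
    (fun x hx => isP_ne_coprime hpq (PC_isP q M₁) (hZle hx)) (Zq_ne_bot q hQ) (Zq_NI q M₁) hZM ?_
  intro x hx y hy
  have hyD := mem_inf.mp (PC_le p (M₂ ⊓ M₁) hy)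
  have hc1 : x * y * x⁻¹ * y⁻¹ ∈ PC p (M₂ ⊓ M₁) :=
    mul_mem ((PC_NI p (M₂ ⊓ M₁)).2 x (mem_inf.mpr ⟨hZM hx, (Zq_NI q M₁).1 hx⟩) y hy) (inv_mem hy)
  have hc2 : x * y * x⁻¹ * y⁻¹ ∈ Zq q M₁ := by
    have h1 := (Zq_NI q M₁).2 y hyD.2 x⁻¹ (inv_mem hx)
    have : x * y * x⁻¹ * y⁻¹ = x * (y * x⁻¹ * y⁻¹) := by group
    rw [this]
    exact mul_mem hx h1
  have h1 := eq_one_of_two hpq (PC_isP p (M₂ ⊓ M₁)) (PC_isP q M₁) hc1 (hZle hc2)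
  have h2 : x * y * x⁻¹ = y := mul_inv_eq_one.mp h1
  calc x * y = x * y * x⁻¹ * x := by group
    _ = y * x := by rw [h2]

theorem eq_of_le_card {X Y : Subgroup G} (h : X ≤ Y) (hc : Nat.card X = Nat.card Y) : X = Y :=
  Subgroup.eq_of_le_of_card_ge h hc.ge

/-- Two distinct primes cannot occur. -/
theorem no_two_primes (S : TWS M₁ M₂) {p q : ℕ} [Fact p.Prime] [Fact q.Prime] (hpq : p ≠ q)
    {S₀ R : Subgroup G} (hS₀ : S₀ ≠ ⊥) (hS₀N : NI S₀ M₁) (hS₀P : S₀ ≤ PC p M₂)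
    (hR : R ≠ ⊥) (hRN : NI R M₂) (hRP : R ≤ PC q M₁) : False := by
  have h1 := two_aux S hpq hS₀ hS₀N hS₀P hR hRN hRP
  have h2 := two_aux S.swap hpq.symm hR hRN hRP hS₀ hS₀N hS₀P
  have hP2 : PC p M₂ ≠ ⊥ := by
    intro h
    rw [h, le_bot_iff] at hS₀P
    exact hS₀ hS₀P
  have hcomm : ∀ x ∈ PC p M₂, ∀ y ∈ PC q M₁, y * x = x * y := by
    intro x hx y hy
    have hc1 : x * y * x⁻¹ * y⁻¹ ∈ PC p M₂ := by
      have h3 := (PC_NI p M₂).2 y (h2 hy) x⁻¹ (inv_mem hx)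
      have : x * y * x⁻¹ * y⁻¹ = x * (y * x⁻¹ * y⁻¹) := by group
      rw [this]
      exact mul_mem hx h3
    have hc2 : x * y * x⁻¹ * y⁻¹ ∈ PC q M₁ :=
      mul_mem ((PC_NI q M₁).2 x (h1 hx) y hy) (inv_mem hy)
    have h4 := eq_one_of_two hpq (PC_isP p M₂) (PC_isP q M₁) hc1 hc2
    have h5 : x * y * x⁻¹ = y := mul_inv_eq_one.mp h4
    calc y * x = x * y * x⁻¹ * x := by rw [h5]
      _ = x * y := by group
  have hKM : Kc q M₁ ≤ M₂ := by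
    intro x hx
    apply S.h2 R hR hRN
    apply cent_norm
    intro u hu
    exact ((mem_Kc.mp hx).1 u (hRP hu)).symm
  have hle : PC p M₂ ≤ PC p M₁ := by
    apply PC_subn p (A := Kc q M₁)
    · refine ⟨fun x hx => ?_, fun m hm u hu => (PC_NI p M₂).2 m (hKM hm) u hu⟩
      rw [mem_Kc]
      exact ⟨fun y hy => hcomm x hx y hy, h1 hx⟩
    · exact Kc_NI q M₁
    · exact PC_isP p M₂
  have he := eq_of_le_card hle (S.cardP p).symm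
  apply S.ne2
  have h6 := NI.mem_norm (PC_NI p M₂)
  rw [he] at h6
  exact h6.trans (S.h1 _ (he ▸ hP2) (PC_NI p M₁))

/-- The first relative core. -/
def a1 (M₁ M₂ : Subgroup G) : Subgroup G := rc M₁ (M₁ ⊓ M₂)

/-- The intersection of the two first relative cores. -/
def q12 (M₁ M₂ : Subgroup G) : Subgroup G := a1 M₁ M₂ ⊓ a1 M₂ M₁

/-- The second relative core. -/
def a2 (M₁ M₂ : Subgroup G) : Subgroup G := rc M₁ (q12 M₁ M₂)

theorem q12_comm (M₁ M₂ : Subgroup G) : q12 M₁ M₂ = q12 M₂ M₁ := inf_comm _ _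

theorem a1_NI (M₁ M₂ : Subgroup G) : NI (a1 M₁ M₂) M₁ := rc_NI _ _

theorem a1_le_inf (M₁ M₂ : Subgroup G) : a1 M₁ M₂ ≤ M₁ ⊓ M₂ := rc_le _ _

theorem a1_le_left (M₁ M₂ : Subgroup G) : a1 M₁ M₂ ≤ M₁ := (a1_le_inf _ _).trans inf_le_left

theorem a1_le_right (M₁ M₂ : Subgroup G) : a1 M₁ M₂ ≤ M₂ := (a1_le_inf _ _).trans inf_le_right

theorem a2_NI (M₁ M₂ : Subgroup G) : NI (a2 M₁ M₂) M₁ := rc_NI _ _

theorem a2_le_q (M₁ M₂ : Subgroup G) : a2 M₁ M₂ ≤ q12 M₁ M₂ := rc_le _ _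

theorem a2_le_a1 (M₁ M₂ : Subgroup G) : a2 M₁ M₂ ≤ a1 M₁ M₂ := (a2_le_q _ _).trans inf_le_left

theorem a2_le_b1 (M₁ M₂ : Subgroup G) : a2 M₁ M₂ ≤ a1 M₂ M₁ := (a2_le_q _ _).trans inf_le_right

theorem a2_NI_a1 (M₁ M₂ : Subgroup G) : NI (a2 M₁ M₂) (a1 M₁ M₂) :=
  (a2_NI M₁ M₂).mono (a2_le_a1 _ _) (a1_le_left _ _)

theorem a2_NI_b1 (M₁ M₂ : Subgroup G) : NI (a2 M₁ M₂) (a1 M₂ M₁) :=
  (a2_NI M₁ M₂).mono (a2_le_b1 _ _) (a1_le_right _ _)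

/-- The key normalization statement for the subgroup generated by the `p'`-elements. -/
theorem norm_K (S : TWS M₁ M₂) (p : ℕ) [Fact p.Prime] (hK : Rs p (a2 M₁ M₂) ≠ ⊥)
    {ζ : G} {W : Subgroup G} (hW : IsPGroup p W) (hWM : W ≤ M₁)
    (hc : ∀ x ∈ a2 M₁ M₂, (orderOf x).Coprime p → ζ * x * ζ⁻¹ * x⁻¹ ∈ W) : ζ ∈ M₁ := by
  have hN := Rs_NI p (a2_NI M₁ M₂)
  apply S.h1 _ hK hN
  apply nz
  apply conj_closure
  intro x hx
  have h1 := hc x hx.1 hx.2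
  have h2 : ζ * x * ζ⁻¹ = (ζ * x * ζ⁻¹ * x⁻¹) * x := by group
  rw [h2]
  apply mem_of_pprime hW (fun w hw k hk => hN.2 w (hWM hw) k hk) h1 (Subgroup.subset_closure hx)
  rw [← h2, orderOf_conj']
  exact hx.2

/-- The subgroup generated by the `p'`-elements of the second core is trivial. -/
theorem a2_pgroup (S : TWS M₁ M₂) (p : ℕ) [Fact p.Prime] (hP : PC p M₁ ≠ ⊥) :
    Rs p (a2 M₁ M₂) = ⊥ := by
  by_contra hK
  -- the notation `B₁ = a1 M₂ M₁`, `Y = PC p (M₁ ⊓ M₂)`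
  have hb1NI := a1_NI M₂ M₁
  have hb1le1 := a1_le_right M₂ M₁
  have hb1le2 := a1_le_left M₂ M₁
  have hxb : ∀ x ∈ a2 M₁ M₂, x ∈ a1 M₂ M₁ := fun x hx => a2_le_b1 _ _ hx
  -- Step a
  have hP2 : PC p M₂ ≤ M₁ := by
    intro ζ hζ
    apply norm_K S p hK (W := PC p M₂ ⊓ a1 M₂ M₁)
      ((PC_isP p M₂).to_le inf_le_left) (inf_le_right.trans hb1le1)
    intro x hx _
    have hxB := hxb x hx
    refine mem_inf.mpr ⟨?_, ?_⟩
    · have h1 := (PC_NI p M₂).2 x (hb1le2 hxB) ζ⁻¹ (inv_mem hζ)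
      have h2 : ζ * x * ζ⁻¹ * x⁻¹ = ζ * (x * ζ⁻¹ * x⁻¹) := by group
      rw [h2]
      exact mul_mem hζ h1
    · have h1 := hb1NI.2 ζ (PC_le p M₂ hζ) x hxB
      exact mul_mem h1 (inv_mem hxB)
  -- Step b
  have hYB : PC p (M₁ ⊓ M₂) ≤ a1 M₂ M₁ := by
    intro ζ hζ
    have hζD := PC_le p (M₁ ⊓ M₂) hζ
    rw [a1, mem_rc]
    refine ⟨(mem_inf.mp hζD).2, ?_⟩
    intro g hg
    refine mem_inf.mpr ⟨mul_mem (mul_mem hg (mem_inf.mp hζD).2) (inv_mem hg), ?_⟩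
    apply norm_K S p hK (W := (PC p (M₁ ⊓ M₂) ⊓ a1 M₂ M₁).map (MulAut.conj g).toMonoidHom)
      (((PC_isP p (M₁ ⊓ M₂)).to_le inf_le_left).map _)
    · rintro _ ⟨u, hu, rfl⟩
      exact hb1le1 (hb1NI.2 g hg u (mem_inf.mp hu).2)
    · intro x hx _
      have hxB := hxb x hx
      have hinv := inv_norm (hb1NI.2 g hg) x hxB
      set xg := g⁻¹ * x * g with hxg
      have hxgD : xg ∈ M₁ ⊓ M₂ := mem_inf.mpr ⟨hb1le1 hinv, hb1le2 hinv⟩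
      refine ⟨ζ * xg * ζ⁻¹ * xg⁻¹, mem_inf.mpr ⟨?_, ?_⟩, ?_⟩
      · have h1 := (PC_NI p (M₁ ⊓ M₂)).2 xg hxgD ζ⁻¹ (inv_mem hζ)
        have h2 : ζ * xg * ζ⁻¹ * xg⁻¹ = ζ * (xg * ζ⁻¹ * xg⁻¹) := by group
        rw [h2]
        exact mul_mem hζ h1
      · have h1 := hb1NI.2 ζ (mem_inf.mp hζD).2 xg hinv
        exact mul_mem h1 (inv_mem hinv)
      · simp only [MulEquiv.coe_toMonoidHom, MulAut.conj_apply, hxg]
        group
  -- Step c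
  have hYP2 : PC p (M₁ ⊓ M₂) ≤ PC p M₂ := by
    apply PC_subn p (A := a1 M₂ M₁) ?_ hb1NI (PC_isP p _)
    refine ⟨hYB, fun m hm u hu => (PC_NI p (M₁ ⊓ M₂)).2 m (mem_inf.mpr ⟨hb1le1 hm, hb1le2 hm⟩) u hu⟩
  -- Step d
  have hP2Y : PC p M₂ ≤ PC p (M₁ ⊓ M₂) := fun x hx => PC_inf_le' p M₁ M₂ (mem_inf.mpr ⟨hx, hP2 hx⟩)
  have hYeq : PC p (M₁ ⊓ M₂) = PC p M₂ := le_antisymm hYP2 hP2Y
  have hP2ne : PC p M₂ ≠ ⊥ := by
    intro h
    apply hP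
    have h1 := S.cardP p
    rw [h] at h1
    simpa using h1
  -- Step e
  have hP1 : PC p M₁ ≤ M₂ := by
    by_contra hne
    have hnY : ¬ PC p M₁ ≤ PC p (M₁ ⊓ M₂) := fun h =>
      hne (h.trans ((PC_le p (M₁ ⊓ M₂)).trans inf_le_right))
    obtain ⟨y', hy'P, hy'Y, hy'n⟩ := grow (PC_isP p M₁) (PC_isP p (M₁ ⊓ M₂))
      (fun y hy x hx => (PC_NI p M₁).2 y (mem_inf.mp (PC_le p (M₁ ⊓ M₂) hy)).1 x hx) hnY
    apply hy'Y
    apply PC_inf_le p M₁ M₂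
    refine mem_inf.mpr ⟨hy'P, ?_⟩
    apply S.h2 _ hP2ne (PC_NI p M₂)
    rw [← hYeq]
    exact nz hy'n
  -- Step f
  have hle : PC p M₁ ≤ PC p M₂ := by
    rw [← hYeq]
    exact fun x hx => PC_inf_le p M₁ M₂ (mem_inf.mpr ⟨hx, hP1 hx⟩)
  have he := eq_of_le_card hle (S.cardP p)
  apply S.ne2
  have h6 := NI.mem_norm (PC_NI p M₂)
  rw [← he] at h6
  exact h6.trans (S.h1 _ hP (PC_NI p M₁))

end Cfsg.Agent.Lib.TW
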