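import Mathlib
import Cfsg.Agent.Lib.TW.Steps

/-!
# The Thompson--Wielandt theorem: the layer step and the main dichotomy
-/

set_option autoImplicit false

open Subgroup Cfsg Cfsg.Agent.Lib.Core Cfsg.Agent.Lib.FStar

namespace Cfsg.Agent.Lib.TW

variable {G : Type*} [Group G] [Finite G]
variable {M₁ M₂ : Subgroup G}

theorem subgroupOf_normal_of_NI {U M : Subgroup G} (h : NI U M) : (U.subgroupOf M).Normal := by
  constructor
  intro n hn g
  rw [mem_subgroupOf] at hn ⊢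
  exact h.2 g g.2 n hn

/-- `U` is subnormal in `M`, both being subgroups of the ambient group. -/
def SN (U M : Subgroup G) : Prop := U ≤ M ∧ (U.subgroupOf M).IsSubnormal

theorem SN_of_NI {U M : Subgroup G} (h : NI U M) : SN U M :=
  ⟨h.1, (subgroupOf_normal_of_NI h).isSubnormal⟩

theorem SN.down {U D M : Subgroup G} (h : SN U M) (hUD : U ≤ D) (hD : D ≤ M) : SN U D := by
  refine ⟨hUD, ?_⟩
  have h1 := h.2.comap (inclusion hD)
  have h2 : (U.subgroupOf M).comap (inclusion hD) = U.subgroupOf D := by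
    ext x
    simp [mem_subgroupOf]
  rwa [h2] at h1

theorem SN.trans {U A M : Subgroup G} (hU : SN U A) (hA : SN A M) : SN U M := by
  refine ⟨hU.1.trans hA.1, ?_⟩
  refine IsSubnormal.trans (K := A.subgroupOf M) ?_ ?_ hA.2
  · intro x hx
    rw [mem_subgroupOf] at hx ⊢
    exact hU.1 hx
  · have h1 := hU.2.comap (subgroupOfEquivOfLe hA.1).toMonoidHom
    have h2 : (U.subgroupOf A).comap (subgroupOfEquivOfLe hA.1).toMonoidHom =
        (U.subgroupOf M).subgroupOf (A.subgroupOf M) := by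
      ext x
      simp [mem_subgroupOf]
    rwa [h2] at h1

/-- `J` is a component of `M`, both being subgroups of the ambient group. -/
def CO (M J : Subgroup G) : Prop := SN J M ∧ IsQuasisimple J

theorem CO.isComponent {M J : Subgroup G} (h : CO M J) : IsComponent (J.subgroupOf M) :=
  ⟨h.1.2, qs_of_mulEquiv (subgroupOfEquivOfLe h.1.1).symm h.2⟩

theorem CO_map {M : Subgroup G} {K : Subgroup M} (hK : IsComponent K) : CO M (K.map M.subtype) := by
  refine ⟨⟨map_subtype_le _, ?_⟩, qs_of_mulEquiv (K.equivMapOfInjective _ M.subtype_injective) hK.2⟩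
  have h2 : (K.map M.subtype).subgroupOf M = K := by
    rw [subgroupOf, comap_map_eq_self_of_injective M.subtype_injective]
  rw [h2]
  exact hK.1

theorem CO_le_LY {M J : Subgroup G} (h : CO M J) : J ≤ LY M := by
  intro x hx
  exact ⟨⟨x, h.1.1 hx⟩, component_le_layer h.isComponent (by rw [mem_subgroupOf]; exact hx), rfl⟩

theorem LY_le_of {M X : Subgroup G} (h : ∀ J, CO M J → J ≤ X) : LY M ≤ X := by
  rw [LY, map_le_iff_le_comap]
  refine sSup_le fun K hK => ?_
  rw [← map_le_iff_le_comap]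
  exact h _ (CO_map hK)

theorem comm_of_bot {X : Type*} [Group X] {A B : Subgroup X} (h : ⁅A, B⁆ = ⊥) {a b : X} (ha : a ∈ A)
    (hb : b ∈ B) : a * b = b * a :=
  mul_comm_of_commutator_eq_bot h ha hb

theorem CO_or {D J U : Subgroup G} (hJ : CO D J) (hU : SN U D) :
    J ≤ U ∨ ∀ a ∈ J, ∀ b ∈ U, a * b = b * a := by
  rcases component_le_or_commute hJ.isComponent hU.2 with h | h
  · left
    intro x hx
    have h1 := h (show (⟨x, hJ.1.1 hx⟩ : D) ∈ J.subgroupOf D by rw [mem_subgroupOf]; exact hx)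
    rw [mem_subgroupOf] at h1
    exact h1
  · right
    intro a ha b hb
    have h1 := comm_of_bot h (show (⟨a, hJ.1.1 ha⟩ : D) ∈ J.subgroupOf D by
      rw [mem_subgroupOf]; exact ha) (show (⟨b, hU.1 hb⟩ : D) ∈ U.subgroupOf D by
      rw [mem_subgroupOf]; exact hb)
    simpa using congrArg Subtype.val h1

theorem solv_subgroupOf {U M : Subgroup G} (hs : Group.IsSolvable U) (hU : U ≤ M) :
    Group.IsSolvable (U.subgroupOf M) :=
  Group.isSolvable_of_isSolvable_injective (f := (subgroupOfEquivOfLe hU).toMonoidHom)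
    (subgroupOfEquivOfLe hU).injective

theorem CO_solv {M J U : Subgroup G} (hJ : CO M J) (hU : SN U M) (hs : Group.IsSolvable U) :
    ∀ a ∈ J, ∀ b ∈ U, a * b = b * a := by
  intro a ha b hb
  have h := component_commute_of_solvable hJ.isComponent hU.2 (solv_subgroupOf hs hU.1)
  have h1 := comm_of_bot h (show (⟨a, hJ.1.1 ha⟩ : M) ∈ J.subgroupOf M by
      rw [mem_subgroupOf]; exact ha) (show (⟨b, hU.1 hb⟩ : M) ∈ U.subgroupOf M by
      rw [mem_subgroupOf]; exact hb)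
  simpa using congrArg Subtype.val h1

theorem CO_norm {M J U : Subgroup G} (hJ : CO M J) (hs : Group.IsSolvable U) (hU : U ≤ M)
    (hinv : ∀ j ∈ J, ∀ u ∈ U, j * u * j⁻¹ ∈ U) : ∀ a ∈ J, ∀ b ∈ U, a * b = b * a := by
  intro a ha b hb
  have h2 : J.subgroupOf M ≤ normalizer ((U.subgroupOf M : Subgroup M) : Set M) := by
    apply normalizer_of_invariant
    intro j hj x hx
    rw [mem_subgroupOf] at hj hx ⊢
    simpa using hinv _ hj _ hx
  have h := component_commute_of_normalizes hJ.isComponent (solv_subgroupOf hs hU) h2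
  have h1 := comm_of_bot h (show (⟨a, hJ.1.1 ha⟩ : M) ∈ J.subgroupOf M by
      rw [mem_subgroupOf]; exact ha) (show (⟨b, hU hb⟩ : M) ∈ U.subgroupOf M by
      rw [mem_subgroupOf]; exact hb)
  simpa using congrArg Subtype.val h1

theorem isP_solv {p : ℕ} [Fact p.Prime] {U : Subgroup G} (h : IsPGroup p U) : Group.IsSolvable U :=
  have := h.isNilpotent
  IsNilpotent.to_isSolvable

/-- Extracts elementwise commuting of a set with a layer from commuting with all components. -/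
theorem LY_comm_of {M : Subgroup G} {a : G} (h : ∀ J, CO M J → ∀ b ∈ J, a * b = b * a) :
    ∀ b ∈ LY M, a * b = b * a := by
  have h1 : LY M ≤ centralizer ({a} : Set G) := by
    apply LY_le_of
    intro J hJ b hb
    rw [mem_centralizer_iff]
    intro y hy
    rw [Set.mem_singleton_iff] at hy
    rw [hy]
    exact h J hJ b hb
  intro b hb
  exact mem_centralizer_iff.mp (h1 hb) a rfl

theorem LY_NI (M : Subgroup G) : NI (LY M) M := by
  refine ⟨map_subtype_le _, ?_⟩
  intro m hm u hu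
  obtain ⟨y, hy, rfl⟩ := hu
  exact ⟨⟨m, hm⟩ * y * (⟨m, hm⟩ : M)⁻¹, (layer_normal M).conj_mem y hy ⟨m, hm⟩, by simp⟩

/-- Conjugation by an element normalizing `H`, as an automorphism of `H`. -/
noncomputable def conjEquiv {H : Subgroup G} {g : G} (h : ∀ a ∈ H, g * a * g⁻¹ ∈ H) : H ≃* H :=
  (MulAut.conj g).subgroupMap H |>.trans (MulEquiv.subgroupCongr (by
    apply le_antisymm
    · rintro _ ⟨u, hu, rfl⟩
      exact h u hu
    · intro x hx
      exact ⟨g⁻¹ * x * g, inv_norm h x hx, by simp [mul_assoc]⟩))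

theorem conjEquiv_coe {H : Subgroup G} {g : G} (h : ∀ a ∈ H, g * a * g⁻¹ ∈ H) (x : H) :
    ((conjEquiv h x : H) : G) = g * x * g⁻¹ := rfl

theorem LY_conj {H : Subgroup G} {g : G} (h : ∀ a ∈ H, g * a * g⁻¹ ∈ H) :
    ∀ u ∈ LY H, g * u * g⁻¹ ∈ LY H := by
  rintro _ ⟨y, hy, rfl⟩
  have h1 := layer_map_equiv (conjEquiv h)
  have h2 : conjEquiv h y ∈ layer H := by
    rw [← h1]
    exact ⟨y, hy, rfl⟩
  exact ⟨_, h2, rfl⟩

theorem LY_NI_of {A M : Subgroup G} (h : NI A M) : NI (LY A) M :=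
  ⟨(map_subtype_le _).trans h.1, fun m hm => LY_conj (h.2 m hm)⟩

theorem LY_sub {A M : Subgroup G} (h : NI A M) : LY A ≤ LY M := by
  apply LY_le_of
  intro J hJ
  exact CO_le_LY ⟨hJ.1.trans (SN_of_NI h), hJ.2⟩

/-- The Fitting subgroup in the ambient group. -/
def FT (M : Subgroup G) : Subgroup G := (fittingSubgroup M).map M.subtype

theorem FT_NI (M : Subgroup G) : NI (FT M) M := by
  refine ⟨map_subtype_le _, ?_⟩
  intro m hm u hu
  obtain ⟨y, hy, rfl⟩ := hu
  exact ⟨⟨m, hm⟩ * y * (⟨m, hm⟩ : M)⁻¹, (fittingSubgroup_normal M).conj_mem y hy ⟨m, hm⟩, by simp⟩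

theorem FT_solv (M : Subgroup G) : Group.IsSolvable (FT M) := by
  have h1 := isNilpotent_fittingSubgroup M
  have h2 : Group.IsSolvable (fittingSubgroup M) := IsNilpotent.to_isSolvable
  exact Group.isSolvable_of_isSolvable_injective
    (f := ((fittingSubgroup M).equivMapOfInjective _ M.subtype_injective).symm.toMonoidHom)
    ((fittingSubgroup M).equivMapOfInjective _ M.subtype_injective).symm.injective

theorem FT_le_of {M X : Subgroup G} (h : ∀ r : ℕ, r.Prime → PC r M ≤ X) : FT M ≤ X := by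
  rw [FT, fittingSubgroup_eq_iSup_pCore, map_le_iff_le_comap]
  apply iSup_le
  intro r
  rw [← map_le_iff_le_comap]
  exact h r r.2

theorem PC_le_FT (r : ℕ) [Fact r.Prime] (M : Subgroup G) : PC r M ≤ FT M :=
  map_mono (pCore_le_fittingSubgroup (G := M) r)

theorem LY_comm_FT (M : Subgroup G) : ∀ a ∈ LY M, ∀ b ∈ FT M, a * b = b * a := by
  rintro _ ⟨a, ha, rfl⟩ _ ⟨b, hb, rfl⟩
  have := comm_of_bot (layer_commute_fitting (G := M)) ha hb
  simpa using congrArg Subtype.val this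

theorem gen_cent {M : Subgroup G} {x : G} (hx : x ∈ M) (h1 : ∀ y ∈ LY M, x * y = y * x)
    (h2 : ∀ y ∈ FT M, x * y = y * x) : x ∈ LY M ⊔ FT M := by
  have hc : (⟨x, hx⟩ : M) ∈ centralizer (generalizedFittingSubgroup M : Set M) := by
    rw [mem_centralizer_iff]
    intro y hy
    have h3 : generalizedFittingSubgroup M ≤ centralizer ({(⟨x, hx⟩ : M)} : Set M) := by
      unfold generalizedFittingSubgroup
      refine sup_le ?_ ?_
      · intro z hz
        rw [mem_centralizer_iff]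
        intro w hw
        rw [Set.mem_singleton_iff] at hw
        rw [hw]
        apply Subtype.ext
        exact h1 _ ⟨z, hz, rfl⟩
      · intro z hz
        rw [mem_centralizer_iff]
        intro w hw
        rw [Set.mem_singleton_iff] at hw
        rw [hw]
        apply Subtype.ext
        exact h2 _ ⟨z, hz, rfl⟩
    have h4 := mem_centralizer_iff.mp (h3 hy) _ rfl
    exact h4.symm
  have h3 := centralizer_gen_le hc
  unfold generalizedFittingSubgroup at h3
  have h4 : ((layer M ⊔ fittingSubgroup M).map M.subtype) = LY M ⊔ FT M := map_sup _ _ _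
  rw [← h4]
  exact ⟨⟨x, hx⟩, h3, rfl⟩

theorem gen_pieces {X : Subgroup G} (h : X ≠ ⊥) : LY X ≠ ⊥ ∨ ∃ q : ℕ, q.Prime ∧ PC q X ≠ ⊥ := by
  by_contra hcon
  push_neg at hcon
  obtain ⟨h1, h2⟩ := hcon
  apply h
  have hF : FT X = ⊥ := by
    rw [eq_bot_iff]
    exact FT_le_of fun r hr => (h2 r hr).le
  rw [eq_bot_iff]
  intro x hx
  have h3 := gen_cent hx (fun y hy => by
    rw [h1, mem_bot] at hy
    simp [hy]) (fun y hy => by
    rw [hF, mem_bot] at hy
    simp [hy])
  rw [h1, hF, sup_bot_eq] at h3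
  exact h3

theorem LY_not_isP {q : ℕ} [Fact q.Prime] {M : Subgroup G} (h : IsPGroup q (LY M)) : LY M = ⊥ := by
  have h1 : IsPGroup q (layer M) := h.of_equiv
    ((layer M).equivMapOfInjective _ M.subtype_injective).symm
  have h2 : Group.IsSolvable (layer M) :=
    have := h1.isNilpotent
    IsNilpotent.to_isSolvable
  by_contra hne
  have h3 : layer M ≠ ⊥ := by
    intro hb
    apply hne
    rw [LY, hb, Subgroup.map_bot]
  have h4 := commutator_lt_of_solvable h2 h3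
  rw [layer_perfect] at h4
  exact lt_irrefl _ h4

theorem layer_step (S : TWS M₁ M₂) (hL : LY (a2 M₁ M₂) ≠ ⊥) :
    LY M₂ ≤ M₁ ∧ FT M₂ ≤ M₁ ∧ LY M₂ ≠ ⊥ := by
  have hLN : NI (LY (a2 M₁ M₂)) M₁ := LY_NI_of (a2_NI M₁ M₂)
  have hLSN : SN (LY (a2 M₁ M₂)) M₂ :=
    (SN_of_NI (LY_NI _)).trans ((SN_of_NI (a2_NI_b1 M₁ M₂)).trans (SN_of_NI (a1_NI M₂ M₁)))
  have hLle : LY (a2 M₁ M₂) ≤ LY M₂ :=
    (LY_sub (a2_NI_b1 M₁ M₂)).trans (LY_sub (a1_NI M₂ M₁))
  have hnorm : ∀ x : G, (∀ y ∈ LY (a2 M₁ M₂), x * y = y * x) → x ∈ M₁ := by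
    intro x hx
    exact S.h1 _ hL hLN (cent_norm hx)
  refine ⟨?_, ?_, ?_⟩
  · apply LY_le_of
    intro J hJ
    rcases CO_or hJ hLSN with h | h
    · exact h.trans hLN.1
    · intro x hx
      exact hnorm x (h x hx)
  · intro x hx
    apply hnorm
    intro y hy
    exact (LY_comm_FT M₂ y (hLle hy) x hx).symm
  · intro h
    rw [h, le_bot_iff] at hLle
    exact hL hLle

theorem layer_step2 (S : TWS M₁ M₂) (hL : LY (a2 M₁ M₂) ≠ ⊥) (hB : a2 M₂ M₁ ≠ ⊥) :
    LY M₁ ≤ M₂ ∧ FT M₁ ≤ M₂ := by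
  by_cases hLB : LY (a2 M₂ M₁) = ⊥
  · rcases gen_pieces hB with h | ⟨q, hq, hR⟩
    · exact absurd hLB h
    haveI : Fact q.Prime := ⟨hq⟩
    have hRN : NI (PC q (a2 M₂ M₁)) M₂ := PC_NI_of q (a2_NI M₂ M₁)
    have hRP : PC q (a2 M₂ M₁) ≤ PC q M₁ :=
      PC_subn q (A := a1 M₁ M₂) (PC_NI_of q (a2_NI_b1 M₂ M₁)) (a1_NI M₁ M₂) (PC_isP _ _)
    have hnorm : ∀ x : G, (∀ y ∈ PC q (a2 M₂ M₁), x * y = y * x) → x ∈ M₂ := by
      intro x hx
      exact S.h2 _ hR hRN (cent_norm hx)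
    obtain ⟨hLM, hFT, hLne⟩ := layer_step S hL
    refine ⟨?_, ?_⟩
    · apply LY_le_of
      intro J hJ x hx
      apply hnorm
      intro y hy
      exact CO_solv hJ (SN_of_NI (PC_NI q M₁)) (isP_solv (PC_isP q M₁)) x hx y (hRP hy)
    · apply FT_le_of
      intro r hr
      haveI : Fact r.Prime := ⟨hr⟩
      by_cases hrq : r = q
      · subst hrq
        refine lemA S r hR hRN hRP (u := Rs r (LY M₂)) rfl (fun x hx => hx.2) ?_
          (Rs_NI r (LY_NI M₂)) ((Rs_le r _).trans hLM) ?_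
        · intro h
          exact hLne (LY_not_isP (Rs_bot h))
        · intro x hx y hy
          have hyD := mem_inf.mp (PC_le r (M₁ ⊓ M₂) hy)
          have hc : ∀ z ∈ LY M₂, y * z = z * y := by
            intro z hz
            have hyc : ∀ J, CO M₂ J → ∀ b ∈ J, y * b = b * y := by
              intro J hJ b hb
              exact (CO_norm hJ (isP_solv (PC_isP r (M₁ ⊓ M₂)))
                ((PC_le r (M₁ ⊓ M₂)).trans inf_le_right)
                (fun j hj u hu => (PC_NI r (M₁ ⊓ M₂)).2 j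
                  (mem_inf.mpr ⟨hLM (CO_le_LY hJ hj), hJ.1.1 hj⟩) u hu) b hb y hy).symm
            exact LY_comm_of hyc z hz
          exact (hc x ((Rs_le r _) hx)).symm
      · intro x hx
        apply hnorm
        intro y hy
        have hy' := hRP hy
        have hc1 : x * y * x⁻¹ * y⁻¹ ∈ PC r M₁ := by
          have h3 := (PC_NI r M₁).2 y (PC_le q M₁ hy') x⁻¹ (inv_mem hx)
          have : x * y * x⁻¹ * y⁻¹ = x * (y * x⁻¹ * y⁻¹) := by group
          rw [this]
          exact mul_mem hx h3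
        have hc2 : x * y * x⁻¹ * y⁻¹ ∈ PC q M₁ :=
          mul_mem ((PC_NI q M₁).2 x (PC_le r M₁ hx) y hy') (inv_mem hy')
        have h4 := eq_one_of_two hrq (PC_isP r M₁) (PC_isP q M₁) hc1 hc2
        have h5 : x * y * x⁻¹ = y := mul_inv_eq_one.mp h4
        calc x * y = x * y * x⁻¹ * x := by group
          _ = y * x := by rw [h5]
  · obtain ⟨h1, h2, _⟩ := layer_step S.swap hLB
    exact ⟨h1, h2⟩

theorem layer_step3 (h1 : LY M₂ ≤ M₁) (h2 : LY M₁ ≤ M₂) (h3 : FT M₁ ≤ M₂) : LY M₂ ≤ LY M₁ := by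
  apply LY_le_of
  intro J hJ
  by_contra hnot
  have hJ1 : J ≤ M₁ := (CO_le_LY hJ).trans h1
  have hJD : CO (M₁ ⊓ M₂) J := ⟨hJ.1.down (le_inf hJ1 hJ.1.1) inf_le_right, hJ.2⟩
  have hcomm1 : ∀ a ∈ J, ∀ b ∈ LY M₁, a * b = b * a := by
    intro a ha
    apply LY_comm_of
    intro J₁ hJ₁ b hb
    have hJ₁D : SN J₁ (M₁ ⊓ M₂) :=
      hJ₁.1.down (le_inf hJ₁.1.1 ((CO_le_LY hJ₁).trans h2)) inf_le_left
    rcases CO_or hJD hJ₁D with h | h
    · exact absurd (h.trans (CO_le_LY hJ₁)) hnot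
    · exact h a ha b hb
  have hcomm2 : ∀ a ∈ J, ∀ b ∈ FT M₁, a * b = b * a := by
    intro a ha b hb
    refine CO_solv hJD (SN_of_NI ((FT_NI M₁).mono (le_inf (FT_NI M₁).1 h3) inf_le_left)) (FT_solv M₁)
      a ha b hb
  have hle : J ≤ LY M₁ ⊔ FT M₁ := fun a ha => gen_cent (hJ1 ha) (hcomm1 a ha) (hcomm2 a ha)
  have hab : ∀ a ∈ J, ∀ b ∈ J, a * b = b * a := by
    intro a ha b hb
    have h4 : LY M₁ ⊔ FT M₁ ≤ centralizer ({a} : Set G) := by
      refine sup_le ?_ ?_
      · intro z hz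
        rw [mem_centralizer_iff]
        intro w hw
        rw [Set.mem_singleton_iff] at hw
        rw [hw]
        exact hcomm1 a ha z hz
      · intro z hz
        rw [mem_centralizer_iff]
        intro w hw
        rw [Set.mem_singleton_iff] at hw
        rw [hw]
        exact hcomm2 a ha z hz
    exact mem_centralizer_iff.mp (h4 (hle hb)) a rfl
  have h5 := qs_subgroup_perfect hJ.2
  have h6 : ⁅J, J⁆ = ⊥ := by
    rw [commutator_eq_bot_iff_le_centralizer]
    intro a ha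
    rw [mem_centralizer_iff]
    intro b hb
    exact hab b hb a ha
  rw [h6] at h5
  exact qs_subgroup_ne_bot hJ.2 h5.symm

/-- The second relative cores cannot have components. -/
theorem no_layer (S : TWS M₁ M₂) (hL : LY (a2 M₁ M₂) ≠ ⊥) (hB : a2 M₂ M₁ ≠ ⊥) : False := by
  obtain ⟨h1, _, hne⟩ := layer_step S hL
  obtain ⟨h2, h3⟩ := layer_step2 S hL hB
  have hle := layer_step3 h1 h2 h3
  have he := eq_of_le_card hle S.cardL.symm
  apply S.ne2
  have h4 := NI.mem_norm (LY_NI M₂)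
  rw [he] at h4 hne
  exact h4.trans (S.h1 _ hne (LY_NI M₁))

/-- From the centralizer condition to the structure of `F*`. -/
theorem gen_of_Kc (M : Subgroup G) (p : ℕ) [Fact p.Prime] (h : Kc p M ≤ PC p M) :
    generalizedFittingSubgroup M = pCore p M := by
  rw [gen_eq_iff]
  constructor
  · rw [eq_bot_iff]
    intro x hx
    have hx1 : (x : G) ∈ Kc p M := by
      rw [mem_Kc]
      refine ⟨?_, x.2⟩
      rintro _ ⟨y, hy, rfl⟩
      exact congrArg Subtype.val (pCore_commute_pPrimeCore hy hx)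
    obtain ⟨y, hy, hyx⟩ := h hx1
    have hxy : y = x := Subtype.ext hyx
    rw [hxy] at hy
    have := pCore_inf_pPrimeCore (p := p) (G := M)
    have h2 : x ∈ pCore p M ⊓ pPrimeCore p M := mem_inf.mpr ⟨hy, hx⟩
    rwa [this] at h2
  · rw [eq_bot_iff]
    refine sSup_le fun L hL => ?_
    exfalso
    apply component_not_le_of_solvable hL (pCore_solvable (p := p) (Q := M))
    intro x hx
    have hx1 : (x : G) ∈ Kc p M := by
      rw [mem_Kc]
      refine ⟨?_, x.2⟩
      rintro _ ⟨y, hy, rfl⟩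
      have := comm_of_bot (component_commute_pCore (p := p) hL) hx hy
      exact (congrArg Subtype.val this).symm
    obtain ⟨y, hy, hyx⟩ := h hx1
    have hxy : y = x := Subtype.ext hyx
    rwa [hxy] at hy

theorem gen_of_sub {A M : Subgroup G} (hAM : NI A M) (p : ℕ) [Fact p.Prime] (h : Kc p M ≤ PC p M) :
    generalizedFittingSubgroup A = pCore p A := by
  have hgM := gen_of_Kc M p h
  rw [gen_eq_iff] at hgM ⊢
  have hsn : (A.subgroupOf M).IsSubnormal := (subgroupOf_normal_of_NI hAM).isSubnormal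
  set e := subgroupOfEquivOfLe hAM.1 with he
  constructor
  · have h1 := pPrimeCore_map_le_of_subnormal (p := p) hsn
    rw [hgM.1, le_bot_iff, map_eq_bot_iff_of_injective _ (subtype_injective _)] at h1
    have h2 := map_pPrimeCore_equiv (p := p) e
    rw [h1, Subgroup.map_bot] at h2
    exact h2.symm
  · have h1 := layer_map_le_of_subnormal hsn
    rw [hgM.2, le_bot_iff, map_eq_bot_iff_of_injective _ (subtype_injective _)] at h1
    have h2 := layer_map_equiv e
    rw [h1, Subgroup.map_bot] at h2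
    exact h2.symm

/-- The assembly of the main dichotomy. -/
theorem main_tw (S : TWS M₁ M₂) (hA : a2 M₁ M₂ ≠ ⊥) (hB : a2 M₂ M₁ ≠ ⊥) :
    ∃ p : ℕ, p.Prime ∧ IsPGroup p (a2 M₁ M₂ ⊔ a2 M₂ M₁ : Subgroup G) ∧
      (generalizedFittingSubgroup M₁ = pCore p M₁) ∧
      (generalizedFittingSubgroup (a1 M₁ M₂) = pCore p (a1 M₁ M₂)) ∧
      (generalizedFittingSubgroup M₂ = pCore p M₂) ∧
      (generalizedFittingSubgroup (a1 M₂ M₁) = pCore p (a1 M₂ M₁)) := by
  have hLA : LY (a2 M₁ M₂) = ⊥ := by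
    by_contra h
    exact no_layer S h hB
  have hLB : LY (a2 M₂ M₁) = ⊥ := by
    by_contra h
    exact no_layer S.swap h hA
  obtain ⟨p, hp, hpA⟩ := (gen_pieces hA).resolve_left (fun h => h hLA)
  obtain ⟨q, hq, hqB⟩ := (gen_pieces hB).resolve_left (fun h => h hLB)
  haveI : Fact p.Prime := ⟨hp⟩
  haveI : Fact q.Prime := ⟨hq⟩
  have hTN : NI (PC p (a2 M₁ M₂)) M₁ := PC_NI_of p (a2_NI M₁ M₂)
  have hTP : PC p (a2 M₁ M₂) ≤ PC p M₂ :=
    PC_subn p (A := a1 M₂ M₁) (PC_NI_of p (a2_NI_b1 M₁ M₂)) (a1_NI M₂ M₁) (PC_isP _ _)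
  have hRN : NI (PC q (a2 M₂ M₁)) M₂ := PC_NI_of q (a2_NI M₂ M₁)
  have hRP : PC q (a2 M₂ M₁) ≤ PC q M₁ :=
    PC_subn q (A := a1 M₁ M₂) (PC_NI_of q (a2_NI_b1 M₂ M₁)) (a1_NI M₁ M₂) (PC_isP _ _)
  have hpq : p = q := by
    by_contra hne
    exact no_two_primes S hne hpA hTN hTP hqB hRN hRP
  subst hpq
  have hP1ne : PC p M₁ ≠ ⊥ := by
    intro h
    rw [h, le_bot_iff] at hRP
    exact hqB hRP
  have hP2ne : PC p M₂ ≠ ⊥ := by
    intro h
    rw [h, le_bot_iff] at hTP
    exact hpA hTP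
  have hK2 := core_cent S p hpA hTN hTP hqB hRN hRP
  have hK1 := core_cent S.swap p hqB hRN hRP hpA hTN hTP
  have hAp : IsPGroup p (a2 M₁ M₂) := Rs_bot (a2_pgroup S p hP1ne)
  have hBp : IsPGroup p (a2 M₂ M₁) := Rs_bot (a2_pgroup S.swap p hP2ne)
  have hA1 : a2 M₁ M₂ ≤ PC p M₁ := le_PC p (a2_NI M₁ M₂) hAp
  have hB1 : a2 M₂ M₁ ≤ PC p M₁ :=
    PC_subn p (A := a1 M₁ M₂) (a2_NI_b1 M₂ M₁) (a1_NI M₁ M₂) hBp
  refine ⟨p, hp, (PC_isP p M₁).to_le (sup_le hA1 hB1), ?_, ?_, ?_, ?_⟩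
  · exact gen_of_Kc M₁ p hK1
  · exact gen_of_sub (a1_NI M₁ M₂) p hK1
  · exact gen_of_Kc M₂ p hK2
  · exact gen_of_sub (a1_NI M₂ M₁) p hK2

end Cfsg.Agent.Lib.TW
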