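import Mathlib
import Cfsg.Agent.Lib.TW.Index
import Cfsg.Agent.S5752

/-!
# The Thompson--Wielandt theorem: primitive permutation groups
-/

set_option autoImplicit false

open Subgroup Cfsg Cfsg.Agent.Lib.Core Cfsg.Agent.Lib.FStar MulAction
open scoped Nat

namespace Cfsg.Agent.Lib.TW

variable {G Ω : Type*} [Group G] [Finite G] [MulAction G Ω] [FaithfulSMul G Ω] [Finite Ω]

theorem rel_eq_card (a b : Ω) :
    (stabilizer G a ⊓ stabilizer G b).relIndex (stabilizer G a) =
      Nat.card (orbit (stabilizer G a) b) := by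
  have h1 : (stabilizer G a ⊓ stabilizer G b).subgroupOf (stabilizer G a) =
      stabilizer (stabilizer G a) b := by
    ext x
    rw [mem_subgroupOf, mem_inf, mem_stabilizer_iff, mem_stabilizer_iff, mem_stabilizer_iff]
    constructor
    · intro h
      exact h.2
    · intro h
      exact ⟨x.2, h⟩
  rw [relIndex, h1, index_stabilizer, Nat.card_coe_set_eq]

/-- The standing package of a primitive action. -/
theorem perm_setup (hprim : IsPreprimitive G Ω) (a b : Ω) (d : ℕ)
    (hd : Nat.card (orbit (stabilizer G a) b) = d) (h2 : 2 ≤ d) :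
    TWS (stabilizer G a) (stabilizer G b) ∧
      (stabilizer G a ⊓ stabilizer G b).relIndex (stabilizer G a) = d ∧
      (stabilizer G a ⊓ stabilizer G b).relIndex (stabilizer G b) = d ∧
      Nat.card (stabilizer G b) = Nat.card (stabilizer G a) := by
  haveI := hprim.toIsPretransitive
  obtain ⟨g, rfl⟩ := exists_smul_eq G a b
  have hconj := stabilizer_smul_eq_stabilizer_map_conj g a
  have hne : stabilizer G a ≠ stabilizer G (g • a) := by
    intro he
    have h3 : orbit (stabilizer G a) (g • a) = {g • a} := by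
      ext x
      rw [Set.mem_singleton_iff]
      constructor
      · rintro ⟨m, rfl⟩
        have h4 : (m : G) ∈ stabilizer G (g • a) := by rw [← he]; exact m.2
        exact h4
      · rintro rfl
        exact mem_orbit_self _
    rw [h3, Nat.card_coe_set_eq, Set.ncard_singleton] at hd
    omega
  have hnt : Nontrivial Ω := by
    by_contra hcon
    rw [not_nontrivial_iff_subsingleton] at hcon
    exact hne (by rw [Subsingleton.elim (g • a) a])
  have hmax : IsCoatom (stabilizer G a) := (isCoatom_stabilizer_iff_preprimitive G a).mpr hprim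
  have hcore : (stabilizer G a).normalCore = ⊥ := by
    rw [eq_bot_iff]
    intro x hx
    rw [mem_bot]
    apply FaithfulSMul.eq_of_smul_eq_smul (α := Ω)
    intro c
    obtain ⟨y, rfl⟩ := exists_smul_eq G a c
    have h3 : y⁻¹ * x * y⁻¹⁻¹ ∈ stabilizer G a := hx y⁻¹
    rw [mem_stabilizer_iff] at h3
    have h4 : x • (y • a) = y • ((y⁻¹ * x * y⁻¹⁻¹) • a) := by
      rw [← mul_smul, ← mul_smul]
      group
    rw [h4, h3, one_smul]
  have hS : TWS (stabilizer G a) (stabilizer G (g • a)) := by
    rw [hconj]
    exact Cfsg.Agent.S5752.tws_of hmax g (by rw [← hconj]; exact hne) hcore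
  have hcard : Nat.card (stabilizer G (g • a)) = Nat.card (stabilizer G a) := by
    rw [hconj]
    exact Nat.card_congr (Cfsg.Agent.S5752.conjE _ g).toEquiv.symm
  have h1 : (stabilizer G a ⊓ stabilizer G (g • a)).relIndex (stabilizer G a) = d := by
    rw [rel_eq_card, hd]
  refine ⟨hS, h1, ?_, hcard⟩
  set D := stabilizer G a ⊓ stabilizer G (g • a) with hD
  have e1 := Subgroup.card_mul_index (D.subgroupOf (stabilizer G a))
  have e2 := Subgroup.card_mul_index (D.subgroupOf (stabilizer G (g • a)))
  have e3 : Nat.card (D.subgroupOf (stabilizer G a)) = Nat.card D :=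
    Nat.card_congr (subgroupOfEquivOfLe (inf_le_left : D ≤ _)).toEquiv
  have e4 : Nat.card (D.subgroupOf (stabilizer G (g • a))) = Nat.card D :=
    Nat.card_congr (subgroupOfEquivOfLe (inf_le_right : D ≤ _)).toEquiv
  rw [e3] at e1
  rw [e4, hcard, ← e1] at e2
  have hpos : 0 < Nat.card D := Nat.card_pos
  have e5 := Nat.eq_of_mul_eq_mul_left hpos e2
  rw [← h1]
  exact e5

/-- The conclusion for both second cores, in the language of a primitive action. -/
theorem perm_dich (hprim : IsPreprimitive G Ω) (a b : Ω) (d : ℕ)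
    (hd : Nat.card (orbit (stabilizer G a) b) = d) (h2 : 2 ≤ d) :
    (a2 (stabilizer G a) (stabilizer G b)).relIndex (stabilizer G a) ∣ d ! * ((d - 1)!) ^ d ∧
    (a2 (stabilizer G b) (stabilizer G a)).relIndex (stabilizer G b) ∣ d ! * ((d - 1)!) ^ d := by
  obtain ⟨_, h3, h4, _⟩ := perm_setup hprim a b d hd h2
  refine ⟨index_bound _ _ h3 h4, ?_⟩
  rw [inf_comm] at h3 h4
  exact index_bound _ _ h4 h3

end Cfsg.Agent.Lib.TW
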